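import Groth.Prelude.Def_SpSeq
import Mathlib.Algebra.Homology.Embedding.ExtendHomology
import Mathlib.Algebra.Homology.Embedding.Basic
import Mathlib.Algebra.Category.Grp.Zero
import Mathlib.Algebra.Category.Grp.Abelian
import Mathlib.Algebra.Homology.HomologicalComplexAbelian
import Mathlib.Data.Int.Interval

/-!
# The degenerate spectral sequence of a family of augmented exact complexes

Given complexes `C q` with homology `B q` in degree zero and none elsewhere, the spectral sequence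
with first page `(p, q) ↦ (C q)^p` degenerates at the second page and abuts to `B`.
-/

set_option autoImplicit false
set_option backward.isDefEq.respectTransparency false

universe v

open CategoryTheory Category Limits
open scoped ZeroObject

noncomputable section

namespace Groth.Agent.EtSecDescLib

variable (C : ℕ → CochainComplex AddCommGrpCat.{v} ℕ)

/-- The rows, indexed by integers. -/
def row : ℤ → CochainComplex AddCommGrpCat.{v} ℤ
  | Int.ofNat q => (C q).extend ComplexShape.embeddingUpNat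
  | Int.negSucc _ => 0

theorem isZero_row_X (p q : ℤ) (h : ¬ (0 ≤ p ∧ 0 ≤ q)) : IsZero ((row C q).X p) := by
  cases q with
  | ofNat q => exact (C q).isZero_extend_X _ p fun n hn => h ⟨by
      have : (n : ℤ) = p := hn
      omega, Int.natCast_nonneg q⟩
  | negSucc q => exact (HomologicalComplex.eval _ _ p).map_isZero (isZero_zero _)

theorem isZero_row_homology (p q : ℤ) (h : ¬ (0 ≤ p ∧ 0 ≤ q)) : IsZero ((row C q).homology p) := by
  rw [← HomologicalComplex.exactAt_iff_isZero_homology, HomologicalComplex.exactAt_iff]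
  exact ShortComplex.exact_of_isZero_X₂ _ (isZero_row_X C p q h)

def rowHomologyIso (q : ℕ) (n : ℕ) : (row C q).homology n ≅ (C q).homology n :=
  (C q).extendHomologyIso ComplexShape.embeddingUpNat rfl

/-- The first page. -/
def firstPage : HomologicalComplex AddCommGrpCat.{v} (ComplexShape.up' ((1 : ℤ), (1 : ℤ) - 1)) where
  X pq := (row C pq.2).X pq.1
  d i j := if h : i.2 = j.2 then (row C i.2).d i.1 j.1 ≫ eqToHom (by rw [h]) else 0
  shape i j hij := by
    by_cases h : i.2 = j.2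
    · rw [dif_pos h, (row C i.2).shape, zero_comp]
      intro h'
      apply hij
      have h'' : i.1 + 1 = j.1 := h'
      exact Prod.ext (by simpa using h'') (by simpa using h)
    · rw [dif_neg h]
  d_comp_d' i j k hij hjk := by
    obtain ⟨i₁, i₂⟩ := i
    obtain ⟨j₁, j₂⟩ := j
    obtain ⟨k₁, k₂⟩ := k
    obtain ⟨-, rfl⟩ : i₁ + 1 = j₁ ∧ i₂ = j₂ := by simpa [Prod.ext_iff] using hij
    obtain ⟨-, rfl⟩ : j₁ + 1 = k₁ ∧ i₂ = k₂ := by simpa [Prod.ext_iff] using hjk
    simp

def firstPageHomologyIso (p q : ℤ) : (firstPage C).homology (p, q) ≅ (row C q).homology p :=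
  ShortComplex.homologyMapIso ((firstPage C).isoSc' (p - 1, q) (p, q) (p + 1, q)
    ((ComplexShape.up' ((1 : ℤ), (1 : ℤ) - 1)).prev_eq' (by simp))
    ((ComplexShape.up' ((1 : ℤ), (1 : ℤ) - 1)).next_eq' (by simp))) ≪≫
  ShortComplex.homologyMapIso (ShortComplex.isoMk (S₁ := (firstPage C).sc' (p - 1, q) (p, q) (p + 1, q))
    (S₂ := (row C q).sc' (p - 1) p (p + 1)) (Iso.refl _) (Iso.refl _) (Iso.refl _)
    (by simp [firstPage]) (by simp [firstPage])) ≪≫
  (ShortComplex.homologyMapIso ((row C q).isoSc' (p - 1) p (p + 1) (by simp) (by simp))).symm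

/-- The later pages. -/
def limitPage (r : ℤ) : HomologicalComplex AddCommGrpCat.{v} (ComplexShape.up' (r, 1 - r)) where
  X pq := (row C pq.2).homology pq.1
  d _ _ := 0

def limitPageHomologyIso (r : ℤ) (pq : ℤ × ℤ) : (limitPage C r).homology pq ≅ (limitPage C r).X pq :=
  (ShortComplex.HomologyData.ofZeros ((limitPage C r).sc pq) rfl rfl).left.homologyIso

def firstPage' (r : ℤ) (h : r = 1) : HomologicalComplex AddCommGrpCat.{v} (ComplexShape.up' (r, 1 - r)) :=
  h ▸ firstPage C

/-- The pages. -/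
def page (r : ℤ) : HomologicalComplex AddCommGrpCat.{v} (ComplexShape.up' (r, 1 - r)) :=
  if h : r = 1 then firstPage' C r h else limitPage C r

theorem page_one : page C 1 = firstPage C := dif_pos rfl

theorem page_of_two_le {r : ℤ} (h : 2 ≤ r) : page C r = limitPage C r := dif_neg (by omega)

theorem pageIso_nonempty (r r' : ℤ) (pq : ℤ × ℤ) (hrr' : r + 1 = r') (hr : 1 ≤ r) :
    Nonempty ((page C r).homology pq ≅ (page C r').X pq) := by
  obtain rfl | h := hr.eq_or_lt
  · obtain rfl : (2 : ℤ) = r' := hrr'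
    rw [page_one, page_of_two_le C le_rfl]
    exact ⟨firstPageHomologyIso C pq.1 pq.2⟩
  · rw [page_of_two_le C (show 2 ≤ r by omega), page_of_two_le C (show 2 ≤ r' by omega)]
    exact ⟨limitPageHomologyIso C r pq⟩

/-- The spectral sequence. -/
def spectralSeq : CohomologicalSpectralSequence AddCommGrpCat.{v} 1 where
  page r _ := page C r
  iso r r' pq hrr' hr := (pageIso_nonempty C r r' pq hrr' hr).some

theorem exists_spectralSequence (H : ℤ → AddCommGrpCat.{v}) (hneg : ∀ n < 0, IsZero (H n))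
    (e₀ : ∀ q : ℕ, Nonempty ((C q).homology 0 ≅ H q))
    (ex : ∀ q p : ℕ, IsZero ((C q).homology (p + 1)))
    (T : ℤ → ℤ → AddCommGrpCat.{v}) (hT : ∀ p q : ℕ, Nonempty ((C q).X p ≅ T p q))
    (hT0 : ∀ p q : ℤ, ¬ (0 ≤ p ∧ 0 ≤ q) → IsZero (T p q)) :
    ∃ (E : CohomologicalSpectralSequence AddCommGrpCat.{v} 1) (a : SpSeq.Abutment E H),
      (∀ n, a.IsFinite n) ∧ SpSeq.IsBounded E ∧
      ∀ p q : ℤ, Nonempty ((E.page 1 le_rfl).X (p, q) ≅ T p q) := by
  have hG : ∀ pq : ℤ × ℤ, pq.1 ≠ 0 → IsZero ((row C pq.2).homology pq.1) := by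
    rintro ⟨p, q⟩ hp
    by_cases h : 0 ≤ p ∧ 0 ≤ q
    · obtain ⟨n, rfl⟩ : ∃ n : ℕ, p = (n + 1 : ℕ) := ⟨(p - 1).toNat, by dsimp at hp; omega⟩
      obtain ⟨m, rfl⟩ := Int.eq_ofNat_of_zero_le h.2
      exact (ex m n).of_iso (rowHomologyIso C m (n + 1))
    · exact isZero_row_homology C p q h
  have hG0 : ∀ q : ℤ, Nonempty ((row C q).homology 0 ≅ H (0 + q)) := by
    intro q
    rw [zero_add]
    cases q with
    | ofNat q =>
      obtain ⟨e⟩ := e₀ q
      exact ⟨rowHomologyIso C q 0 ≪≫ e⟩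
    | negSucc q => exact ⟨(isZero_row_homology C 0 _ (by omega)).iso (hneg _ (by omega))⟩
  let fil : ∀ n : ℤ, ℤ → Subobject (H n) := fun _ p => if p ≤ 0 then ⊤ else ⊥
  have anti : ∀ n, Antitone (fil n) := fun n p p' hp => by
    dsimp only [fil]
    split_ifs
    · exact le_rfl
    · omega
    · exact bot_le
    · exact le_rfl
  have hβ : ∀ pq : ℤ × ℤ, Nonempty (((spectralSeq C).page 2 (by omega)).X pq ≅
      SpSeq.grPiece (fil (pq.1 + pq.2)) (anti (pq.1 + pq.2)) pq.1) := by
    rintro ⟨p, q⟩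
    show Nonempty ((page C 2).X (p, q) ≅ _)
    rw [page_of_two_le C le_rfl]
    show Nonempty ((row C q).homology p ≅ _)
    by_cases hp : p = 0
    · subst hp
      obtain ⟨e⟩ := hG0 q
      have h1 : fil (0 + q) 0 = ⊤ := if_pos le_rfl
      have h2 : fil (0 + q) (0 + 1) = ⊥ := if_neg (by omega)
      have hz : IsZero ((fil (0 + q) (0 + 1) : Subobject _) : AddCommGrpCat.{v}) := by
        rw [h2]
        exact IsZero.of_iso (isZero_zero _) Subobject.botCoeIsoZero
      haveI : IsIso (fil (0 + q) 0).arrow := (Subobject.isIso_arrow_iff_eq_top _).2 h1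
      exact ⟨e ≪≫ (asIso (fil (0 + q) 0).arrow).symm ≪≫ (cokernelZeroIsoTarget).symm ≪≫
        cokernelIsoOfEq (hz.eq_of_src _ _)⟩
    · refine ⟨(hG (p, q) hp).iso ?_⟩
      have h : fil (p + q) p ≤ fil (p + q) (p + 1) := by
        dsimp only [fil]
        split_ifs
        · exact le_rfl
        · omega
        · exact bot_le
        · exact le_rfl
      haveI : IsIso ((fil (p + q) (p + 1)).ofLE (fil (p + q) p) (anti _ (by omega))) :=
        ⟨(fil (p + q) p).ofLE _ h, by simp, by simp⟩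
      exact isZero_cokernel_of_epi _
  have stat : ∀ pq : ℤ × ℤ, SpSeq.StationaryAt (spectralSeq C) pq 2 := fun pq =>
    ⟨by omega, fun r' h₀ hr => by
      show (page C r').d _ _ = 0 ∧ (page C r').d _ _ = 0
      rw [page_of_two_le C hr]
      exact ⟨rfl, rfl⟩⟩
  let a : SpSeq.Abutment (spectralSeq C) H :=
    { fil := fil
      anti := anti
      rk := fun _ => 2
      stat := stat
      β := fun pq => (hβ pq).some }
  have h1 : ∀ p q : ℤ, ¬ (0 ≤ p ∧ 0 ≤ q) → IsZero (((spectralSeq C).page 1 le_rfl).X (p, q)) := by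
    intro p q h
    show IsZero ((page C 1).X (p, q))
    rw [page_one]
    exact isZero_row_X C p q h
  refine ⟨spectralSeq C, a, fun n => ⟨⟨0, show fil n 0 = ⊤ from if_pos le_rfl⟩,
    ⟨1, show fil n 1 = ⊥ from if_neg (by omega)⟩⟩, fun n => ?_, fun p q => ?_⟩
  · refine (Set.finite_Icc (0 : ℤ) n).subset fun p hp => ?_
    simp only [Set.mem_setOf_eq] at hp
    by_contra h
    exact hp (h1 p (n - p) fun h' => h ⟨h'.1, by omega⟩)
  · by_cases h : 0 ≤ p ∧ 0 ≤ q
    · obtain ⟨m, rfl⟩ := Int.eq_ofNat_of_zero_le h.1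
      obtain ⟨n, rfl⟩ := Int.eq_ofNat_of_zero_le h.2
      obtain ⟨e⟩ := hT m n
      show Nonempty ((page C 1).X _ ≅ _)
      rw [page_one]
      exact ⟨(C n).extendXIso ComplexShape.embeddingUpNat rfl ≪≫ e⟩
    · exact ⟨(h1 p q h).iso (hT0 p q h)⟩

end Groth.Agent.EtSecDescLib
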