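import Groth.Agent.EtSecDescLib.Func
import Groth.Agent.EtSecDescLib.SpSeq
import Groth.Agent.SpSeqE1.Bicomplex
import Mathlib.AlgebraicTopology.AlternatingFaceMapComplex
import Mathlib.CategoryTheory.Limits.Shapes.WidePullbacks

/-!
# The Čech complex of a map with a section, applied to a contravariant functor

It is a resolution of the value at the base.
-/

set_option autoImplicit false
set_option backward.isDefEq.respectTransparency false

universe w v u

open CategoryTheory Category Limits Opposite Simplicial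

noncomputable section

namespace Groth.Agent.EtSecDescLib

variable {D : Type u} [Category.{v} D] [HasFiniteWidePullbacks D] {X Y : D} (f : X ⟶ Y)

/-- The fibre powers over the base. -/
abbrev pow (n : ℕ) : Over Y :=
  Over.mk (WidePullback.base (fun _ : Fin (n + 1) => f) : widePullback Y (fun _ : Fin (n + 1) => X) (fun _ => f) ⟶ Y)

theorem π_base {n : ℕ} (i : Fin (n + 1)) :
    WidePullback.π (fun _ : Fin (n + 1) => f) i ≫ f = WidePullback.base (fun _ : Fin (n + 1) => f) :=
  WidePullback.π_arrow (fun _ : Fin (n + 1) => f) i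

/-- Maps between the fibre powers. -/
def reindex {m n : ℕ} (θ : Fin (m + 1) → Fin (n + 1)) : pow f n ⟶ pow f m :=
  Over.homMk (WidePullback.lift (WidePullback.base _) (fun j => WidePullback.π _ (θ j)) fun j => π_base f (θ j))
    (WidePullback.lift_base _ _ _ _)

theorem reindex_π {m n : ℕ} (θ : Fin (m + 1) → Fin (n + 1)) (j : Fin (m + 1)) :
    (reindex f θ).left ≫ WidePullback.π (fun _ : Fin (m + 1) => f) j = WidePullback.π _ (θ j) :=
  WidePullback.lift_π _ _ _ _ _

theorem powHom_ext {Z : Over Y} {n : ℕ} (a b : Z ⟶ pow f n)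
    (h : ∀ j : Fin (n + 1), a.left ≫ WidePullback.π (fun _ : Fin (n + 1) => f) j = b.left ≫ WidePullback.π _ j) :
    a = b :=
  Over.OverMorphism.ext (WidePullback.hom_ext _ _ _ h ((Over.w a).trans (Over.w b).symm))

/-- The fibre powers as a functor. -/
def powFunctor : SimplexCategory ⥤ (Over Y)ᵒᵖ where
  obj n := op (pow f n.len)
  map θ := (reindex f θ.toOrderHom).op
  map_id n := Quiver.Hom.unop_inj (powHom_ext f _ _ fun j => by
    show (reindex f _).left ≫ _ = (𝟙 (pow f n.len) : pow f n.len ⟶ pow f n.len).left ≫ _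
    rw [reindex_π, Over.id_left]
    exact (Category.id_comp _).symm)
  map_comp θ η := Quiver.Hom.unop_inj (powHom_ext f _ _ fun j => by
    show (reindex f _).left ≫ _ = ((reindex f η.toOrderHom).left ≫ (reindex f θ.toOrderHom).left) ≫ _
    rw [reindex_π, Category.assoc, reindex_π, reindex_π]
    rfl)

variable (P : (Over Y)ᵒᵖ ⥤ AddCommGrpCat.{w})

/-- The Čech complex. -/
def cechComplex : CochainComplex AddCommGrpCat.{w} ℕ :=
  (AlgebraicTopology.alternatingCofaceMapComplex _).obj (powFunctor f ⋙ P)

/-- The maps on values, as homomorphisms. -/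
abbrev pmap {Z Z' : Over Y} (g : Z' ⟶ Z) : P.obj (op Z) →+ P.obj (op Z') := (P.map g.op).hom

theorem pmap_comp {Z Z' Z'' : Over Y} (g : Z' ⟶ Z) (h : Z'' ⟶ Z') (x : P.obj (op Z)) :
    pmap P h (pmap P g x) = pmap P (h ≫ g) x := by
  show (P.map h.op).hom ((P.map g.op).hom x) = _
  rw [← ConcreteCategory.comp_apply, ← P.map_comp, ← op_comp]

theorem cech_d (n : ℕ) (x : P.obj (op (pow f n))) :
    (cechComplex f P).d n (n + 1) x =
      ∑ i : Fin (n + 2), (-1 : ℤ) ^ (i : ℕ) • pmap P (reindex f i.succAbove) x := by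
  have h : (cechComplex f P).d n (n + 1) = AlgebraicTopology.AlternatingCofaceMapComplex.objD (powFunctor f ⋙ P) n :=
    (dif_pos rfl).trans (Category.comp_id _)
  rw [h]
  show (∑ i : Fin (n + 2), (-1 : ℤ) ^ (i : ℕ) • CosimplicialObject.δ (powFunctor f ⋙ P) i).hom x = _
  let ev : (P.obj (op (pow f n)) ⟶ P.obj (op (pow f (n + 1)))) →+ P.obj (op (pow f (n + 1))) :=
    { toFun := fun g => g.hom x, map_zero' := rfl, map_add' := fun _ _ => rfl }
  refine (map_sum ev _ _).trans (Finset.sum_congr rfl fun i _ => ?_)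
  rfl

section Section

variable (s : Y ⟶ X) (hs : s ≫ f = 𝟙 Y)

/-- The base. -/
abbrev base : Over Y := Over.mk (𝟙 Y)

/-- The augmentation. -/
def toBase : pow f 0 ⟶ base := Over.homMk (WidePullback.base _) (Category.comp_id _)

/-- The section into the zeroth power. -/
def fromBase : (base : Over Y) ⟶ pow f 0 :=
  Over.homMk (WidePullback.lift (𝟙 Y) (fun _ => s) fun _ => hs) (WidePullback.lift_base _ _ _ _)

/-- The extra degeneracy. -/
def sigma (n : ℕ) : pow f n ⟶ pow f (n + 1) :=
  Over.homMk (WidePullback.lift (WidePullback.base _)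
    (Fin.cases (WidePullback.base (fun _ : Fin (n + 1) => f) ≫ s) fun j => WidePullback.π _ j) fun j => by
      refine Fin.cases ?_ (fun j => ?_) j
      · rw [Fin.cases_zero, Category.assoc, hs, Category.comp_id]
      · rw [Fin.cases_succ, π_base])
    (WidePullback.lift_base _ _ _ _)

theorem sigma_π_zero (n : ℕ) :
    (sigma f s hs n).left ≫ WidePullback.π (fun _ : Fin (n + 2) => f) 0 =
      WidePullback.base (fun _ : Fin (n + 1) => f) ≫ s :=
  WidePullback.lift_π _ _ _ _ _

theorem sigma_π_succ (n : ℕ) (j : Fin (n + 1)) :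
    (sigma f s hs n).left ≫ WidePullback.π (fun _ : Fin (n + 2) => f) j.succ =
      WidePullback.π (fun _ : Fin (n + 1) => f) j := by
  show WidePullback.lift _ _ _ ≫ _ = _
  rw [WidePullback.lift_π, Fin.cases_succ]

theorem sigma_face_zero (n : ℕ) :
    sigma f s hs n ≫ reindex f ((0 : Fin (n + 2)).succAbove) = 𝟙 _ := by
  refine powHom_ext f _ _ fun j => ?_
  rw [Over.comp_left, Category.assoc, reindex_π, Fin.succAbove_zero, sigma_π_succ, Over.id_left]
  exact (Category.id_comp _).symm

theorem sigma_face_succ (n : ℕ) (i : Fin (n + 2)) :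
    sigma f s hs (n + 1) ≫ reindex f i.succ.succAbove = reindex f i.succAbove ≫ sigma f s hs n := by
  refine powHom_ext f _ _ fun j => ?_
  rw [Over.comp_left, Category.assoc, reindex_π, Over.comp_left, Category.assoc]
  refine Fin.cases ?_ (fun j => ?_) j
  · rw [Fin.succ_succAbove_zero, sigma_π_zero, sigma_π_zero, ← Category.assoc]
    congr 1
    exact (Over.w (reindex f i.succAbove)).symm
  · rw [Fin.succ_succAbove_succ, sigma_π_succ, sigma_π_succ, reindex_π]

theorem sigma_face_one :
    sigma f s hs 0 ≫ reindex f ((1 : Fin 2).succAbove) = toBase f ≫ fromBase f s hs := by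
  refine powHom_ext f _ _ fun j => ?_
  rw [Over.comp_left, Category.assoc, reindex_π, Over.comp_left, Category.assoc]
  fin_cases j
  show (sigma f s hs 0).left ≫ WidePullback.π _ ((1 : Fin 2).succAbove 0) = _
  rw [show (1 : Fin 2).succAbove 0 = 0 from rfl, sigma_π_zero]
  show _ = WidePullback.base (fun _ : Fin (0 + 1) => f) ≫
    (fromBase f s hs).left ≫ WidePullback.π (fun _ : Fin (0 + 1) => f) 0
  rw [show (fromBase f s hs).left ≫ WidePullback.π (fun _ : Fin (0 + 1) => f) 0 = s from
    WidePullback.lift_π _ _ _ _ _]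

theorem fromBase_toBase : fromBase f s hs ≫ toBase f = 𝟙 _ :=
  Over.OverMorphism.ext (WidePullback.lift_base _ _ _ _)

theorem face_toBase (i : Fin 2) : reindex f i.succAbove ≫ toBase f = reindex f ((0 : Fin 2).succAbove) ≫ toBase f :=
  Over.OverMorphism.ext ((WidePullback.lift_base _ _ _ _).trans (WidePullback.lift_base _ _ _ _).symm)

include hs

theorem homotopy_succ (n : ℕ) (x : P.obj (op (pow f (n + 1)))) :
    pmap P (sigma f s hs (n + 1)) ((cechComplex f P).d (n + 1) (n + 2) x) =
      x - (id ((cechComplex f P).d n (n + 1) (pmap P (sigma f s hs n) x)) : P.obj (op (pow f (n + 1)))) := by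
  dsimp only [id]
  rw [cech_d, cech_d, map_sum, Fin.sum_univ_succ, sub_eq_add_neg, ← Finset.sum_neg_distrib]
  congr 1
  · rw [Fin.val_zero, pow_zero, one_smul, pmap_comp, sigma_face_zero]
    show (P.map (𝟙 _)).hom x = x
    rw [P.map_id]
    rfl
  · refine Finset.sum_congr rfl fun i _ => ?_
    rw [map_zsmul, pmap_comp, sigma_face_succ, pmap_comp, Fin.val_succ, pow_succ, mul_neg, mul_one, neg_smul]

theorem homotopy_zero (x : P.obj (op (pow f 0))) :
    pmap P (sigma f s hs 0) ((cechComplex f P).d 0 1 x) = x - pmap P (toBase f) (pmap P (fromBase f s hs) x) := by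
  rw [cech_d, map_sum, Fin.sum_univ_two, map_zsmul, map_zsmul, pmap_comp, pmap_comp, pmap_comp,
    sigma_face_one, sigma_face_zero, Fin.val_zero, Fin.val_one, pow_zero, pow_one, one_smul, neg_one_smul,
    sub_eq_add_neg]
  congr 1
  show (P.map (𝟙 _)).hom x = x
  rw [P.map_id]
  rfl

theorem isZero_homology_succ (p : ℕ) : IsZero ((cechComplex f P).homology (p + 1)) := by
  rw [← HomologicalComplex.exactAt_iff_isZero_homology,
    (cechComplex f P).exactAt_iff' p (p + 1) (p + 2) (by simp) (by simp), ShortComplex.ab_exact_iff]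
  intro x hx
  refine ⟨pmap P (sigma f s hs p) x, ?_⟩
  have h := homotopy_succ f P s hs p x
  rw [show (cechComplex f P).d (p + 1) (p + 2) x = 0 from hx, map_zero] at h
  exact (sub_eq_zero.1 h.symm).symm

theorem nonempty_homology_zero : Nonempty ((cechComplex f P).homology 0 ≅ P.obj (op base)) := by
  let B := P.obj (op (base : Over Y))
  let S : ShortComplex AddCommGrpCat.{w} := ShortComplex.mk (0 : B ⟶ B) (0 : B ⟶ B) comp_zero
  obtain ⟨e⟩ := SpSeqE1.nonempty_homology_iso_of_hom S ((cechComplex f P).sc' 0 0 1) (pmap P (toBase f))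
    (fun x _ => by
      show (cechComplex f P).d 0 1 (pmap P (toBase f) x) = 0
      rw [cech_d, Fin.sum_univ_two, pmap_comp, pmap_comp, face_toBase f 1, Fin.val_zero, Fin.val_one, pow_zero,
        pow_one, one_smul, neg_one_smul, add_neg_cancel])
    (fun z hz => ⟨pmap P (fromBase f s hs) z, rfl, 0, by
      have h := homotopy_zero f P s hs z
      rw [show (cechComplex f P).d 0 1 z = 0 from hz, map_zero] at h
      exact (map_zero _).trans h⟩)
    (fun x _ => ⟨fun ⟨y, hy⟩ => ⟨0, by
      have h0 : (cechComplex f P).d 0 0 y = 0 := by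
        rw [(cechComplex f P).shape 0 0 (by simp)]
        rfl
      have hy' : pmap P (toBase f) x = 0 := hy.symm.trans h0
      have h1 : pmap P (fromBase f s hs) (pmap P (toBase f) x) = x := by
        rw [pmap_comp, fromBase_toBase]
        show (P.map (𝟙 _)).hom x = x
        rw [P.map_id]
        rfl
      rw [hy', map_zero] at h1
      exact (map_zero _).trans h1⟩,
      fun ⟨w, hw⟩ => ⟨0, by
        have : x = 0 := hw.symm
        rw [this, map_zero, map_zero]⟩⟩)
  exact ⟨ShortComplex.homologyMapIso ((cechComplex f P).isoSc' 0 0 1 (by simp) (by simp)) ≪≫ e.symm ≪≫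
    (ShortComplex.HomologyData.ofZeros S rfl rfl).left.homologyIso⟩

end Section

end Groth.Agent.EtSecDescLib
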