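import Groth.Agent.EtLimLib.Hpull
import Groth.Agent.S0642

/-!
# Étale cohomology of the inverse images of a sheaf, as a functor on schemes over the base
-/

set_option autoImplicit false
set_option backward.isDefEq.respectTransparency false
set_option backward.isDefEq.respectTransparency.types false

universe u

open CategoryTheory CategoryTheory.Limits AlgebraicGeometry Opposite Groth.Agent.EtLimLib

noncomputable section

namespace Groth.Agent.EtSecDescLib

attribute [local instance] S0101.result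

/-- Pullback to a base changed object along the identity. -/
def bcIdProj {A : Scheme.{u}} (V : A.Etale) : (EtCoh.bc (𝟙 A)).obj V ⟶ V :=
  MorphismProperty.Over.homMk (pullback.fst V.hom (𝟙 A)) (pullback.condition.trans (Category.comp_id _))

/-- `G ⟶ (𝟙)_* G`. -/
def toPushId {A : Scheme.{u}} : 𝟭 (EtCoh.Ab A) ⟶ EtCoh.push (𝟙 A) where
  app G := ObjectProperty.homMk
    { app := fun V => G.obj.map (bcIdProj V.unop).op
      naturality := fun V V' g => by
        show G.obj.map g ≫ G.obj.map (bcIdProj V'.unop).op =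
          G.obj.map (bcIdProj V.unop).op ≫ G.obj.map ((EtCoh.bc (𝟙 A)).map g.unop).op
        rw [← Functor.map_comp, ← Functor.map_comp]
        congr 1
        apply Quiver.Hom.unop_inj
        exact MorphismProperty.Over.Hom.ext (bc_map_fst (𝟙 A) g.unop).symm }
  naturality G G' a := by
    refine ObjectProperty.hom_ext _ (NatTrans.ext (funext fun V => ?_))
    exact (a.hom.naturality _).symm

instance isIso_bcIdProj {A : Scheme.{u}} (V : A.Etale) : IsIso (bcIdProj V) := by
  refine ⟨MorphismProperty.Over.homMk (pullback.lift (𝟙 V.left) V.hom (by simp)) (pullback.lift_snd _ _ _),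
    ?_, ?_⟩
  · refine bc_ext (𝟙 A) ?_
    show (pullback.fst V.hom (𝟙 A) ≫ pullback.lift (𝟙 V.left) V.hom _) ≫ pullback.fst V.hom (𝟙 A) = 𝟙 _ ≫ _
    rw [Category.assoc, pullback.lift_fst]
    exact (Category.comp_id _).trans (Category.id_comp _).symm
  · exact MorphismProperty.Over.Hom.ext (pullback.lift_fst _ _ _)

instance isIso_toPushId {A : Scheme.{u}} : IsIso (toPushId (A := A)) := by
  refine @NatIso.isIso_of_isIso_app _ _ _ _ _ _ _ fun G => ?_
  haveI : IsIso ((sheafToPresheaf _ _).map (toPushId.app G)) :=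
    @NatIso.isIso_of_isIso_app _ _ _ _ _ _ _ fun V =>
      inferInstanceAs (IsIso (G.obj.map (bcIdProj V.unop).op))
  exact isIso_of_reflects_iso (toPushId.app G) (sheafToPresheaf _ _)

variable {Y : Scheme.{u}} (F : EtCoh.Ab Y)

/-- The inverse images of `F`. -/
abbrev res (Z : Over Y) : EtCoh.Ab Z.left := (EtCoh.pull Z.hom).obj F

/-- The adjunct transition maps. -/
def psi {Z Z' : Over Y} (g : Z' ⟶ Z) : res F Z ⟶ (EtCoh.push g.left).obj (res F Z') :=
  ((EtCoh.pullPushAdj Z.hom).homEquiv _ _).symm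
    ((EtCoh.pullPushAdj Z'.hom).unit.app F ≫ (pushSp Z.hom g.left Z'.hom (Over.w g)).app _)

/-- The transition maps. -/
def resMap {Z Z' : Over Y} (g : Z' ⟶ Z) : (EtCoh.pull g.left).obj (res F Z) ⟶ res F Z' :=
  ((EtCoh.pullPushAdj g.left).homEquiv _ _).symm (psi F g)

theorem psi_comp {Z Z' Z'' : Over Y} (g : Z' ⟶ Z) (f : Z'' ⟶ Z') :
    psi F (f ≫ g) = psi F g ≫ (EtCoh.push g.left).map (psi F f) ≫
      pushJoin g.left f.left (f ≫ g).left rfl _ := by
  apply ((EtCoh.pullPushAdj Z.hom).homEquiv _ _).injective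
  rw [Adjunction.homEquiv_naturality_right, psi, psi, Equiv.apply_symm_apply, Equiv.apply_symm_apply,
    Functor.map_comp, Category.assoc, ← Category.assoc ((pushSp Z.hom g.left Z'.hom (Over.w g)).app _)]
  have h1 : (EtCoh.push Z'.hom).map (psi F f) ≫
        (pushSp Z.hom g.left Z'.hom (Over.w g)).app ((EtCoh.push f.left).obj (res F Z'')) =
      (pushSp Z.hom g.left Z'.hom (Over.w g)).app (res F Z') ≫
        (EtCoh.push Z.hom).map ((EtCoh.push g.left).map (psi F f)) :=
    (pushSp Z.hom g.left Z'.hom (Over.w g)).naturality (psi F f)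
  rw [← h1, Category.assoc, ← Category.assoc ((EtCoh.pullPushAdj Z'.hom).unit.app F)]
  have h2 : (EtCoh.pullPushAdj Z'.hom).unit.app F ≫ (EtCoh.push Z'.hom).map (psi F f) =
      (EtCoh.pullPushAdj Z''.hom).unit.app F ≫ (pushSp Z'.hom f.left Z''.hom (Over.w f)).app _ := by
    exact ((EtCoh.pullPushAdj Z'.hom).homEquiv_unit _ _ _).symm.trans (Equiv.apply_symm_apply _ _)
  rw [h2, Category.assoc]
  congr 1
  rw [← Category.assoc, pushSp_assoc Z.hom g.left f.left Z'.hom (f ≫ g).left Z''.hom (Over.w g)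
    rfl (Over.w f) (Over.w (f ≫ g)), Category.assoc, ← Functor.map_comp,
    pushSp_pushJoin, CategoryTheory.Functor.map_id]
  exact (Category.comp_id _).symm

theorem psi_id (Z : Over Y) : psi F (𝟙 Z) = toPushId.app (res F Z) := by
  apply ((EtCoh.pullPushAdj Z.hom).homEquiv _ _).injective
  rw [psi, Equiv.apply_symm_apply, Adjunction.homEquiv_unit]
  congr 1
  refine ObjectProperty.hom_ext _ (NatTrans.ext (funext fun V => ?_))
  show (res F Z).obj.map (bcSp Z.hom (𝟙 Z : Z ⟶ Z).left Z.hom _ V.unop).op =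
    (res F Z).obj.map (bcIdProj ((EtCoh.bc Z.hom).obj V.unop)).op
  congr 2
  refine bc_ext Z.hom ?_
  exact bcSp_fst _ _ _ _ _

instance isIso_resMap_id (Z : Over Y) : IsIso (resMap F (𝟙 Z)) := by
  haveI : (EtCoh.push (𝟙 Z.left)).IsEquivalence :=
    Functor.isEquivalence_of_iso (asIso (toPushId (A := Z.left)))
  rw [resMap, psi_id, Adjunction.homEquiv_counit]
  haveI : IsIso ((EtCoh.pullPushAdj (𝟙 Z.left)).counit.app (res F Z)) := inferInstance
  exact inferInstanceAs (IsIso ((EtCoh.pull (𝟙 Z.left)).map (toPushId.app (res F Z)) ≫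
    (EtCoh.pullPushAdj (𝟙 Z.left)).counit.app (res F Z)))

variable (q : ℕ)

/-- Restriction on cohomology. -/
def cohMap {Z Z' : Over Y} (g : Z' ⟶ Z) :
    EtCoh.H Z.left (res F Z) q →+ EtCoh.H Z'.left (res F Z') q :=
  EtLim.HpullThen g.left (res F Z) (resMap F g) q

theorem cohMap_comp {Z Z' Z'' : Over Y} (g : Z' ⟶ Z) (f : Z'' ⟶ Z') (x : EtCoh.H Z.left (res F Z) q) :
    cohMap F q (f ≫ g) x = cohMap F q f (cohMap F q g x) := by
  refine HpullThen_comp g.left f.left (f ≫ g).left rfl (resMap F g) (resMap F f)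
    (resMap F (f ≫ g)) ?_ q x
  rw [resMap, resMap, resMap, Equiv.apply_symm_apply, Equiv.apply_symm_apply, Equiv.apply_symm_apply]
  exact psi_comp F g f

theorem cohMap_id_bijective (Z : Over Y) : Function.Bijective (cohMap F q (𝟙 Z)) := by
  have h1 : Function.Bijective (EtCore.Hpull (𝟙 Z.left) (res F Z) q) :=
    S0642.result (𝟙 Z.left) (res F Z) q
  have h2 : Function.Bijective ((EtCoh.HF Z.left q).map (resMap F (𝟙 Z))).hom :=
    ConcreteCategory.bijective_of_isIso ((EtCoh.HF Z.left q).map (resMap F (𝟙 Z)))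
  exact h2.comp h1

theorem cohMap_id (Z : Over Y) (x : EtCoh.H Z.left (res F Z) q) : cohMap F q (𝟙 Z) x = x := by
  apply (cohMap_id_bijective F q Z).1
  rw [← cohMap_comp, Category.comp_id]

/-- The cohomology functor. -/
def cohFunctor : (Over Y)ᵒᵖ ⥤ AddCommGrpCat.{u + 1} where
  obj Z := AddCommGrpCat.of (EtCoh.H Z.unop.left (res F Z.unop) q)
  map g := AddCommGrpCat.ofHom (cohMap F q g.unop)
  map_id Z := by
    rw [unop_id, show cohMap F q (𝟙 Z.unop) = AddMonoidHom.id _ from AddMonoidHom.ext (cohMap_id F q Z.unop)]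
    rfl
  map_comp g f := by
    rw [unop_comp, show cohMap F q (f.unop ≫ g.unop) = (cohMap F q f.unop).comp (cohMap F q g.unop) from
      AddMonoidHom.ext (cohMap_comp F q g.unop f.unop)]
    rfl

end Groth.Agent.EtSecDescLib
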